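import Groth.Agent.ConstFib.Scheme
import Groth.Agent.UFDLib.Regular
import Groth.Agent.S2421
import Mathlib

/-! Birational proper morphisms onto normal schemes: points over a discrete valuation ring, connected fibres. -/

set_option autoImplicit false
set_option backward.isDefEq.respectTransparency false
set_option backward.isDefEq.respectTransparency.types false

universe u

open CategoryTheory CategoryTheory.Limits AlgebraicGeometry TopologicalSpace Topology

namespace Groth.Agent.RelMinSmooth

theorem bijective_stalkSpecializes_of_eq {X : Scheme.{u}} {x y : X} (h : x = y) :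
    Function.Bijective (X.presheaf.stalkSpecializes (specializes_of_eq h)) := by
  subst h
  rw [show X.presheaf.stalkSpecializes (specializes_of_eq (rfl : x = x)) = 𝟙 _ from TopCat.Presheaf.stalkSpecializes_refl _ _]
  exact Function.bijective_id

variable {X Y : Scheme.{u}} [IsIntegral X] [IsIntegral Y] (g : X ⟶ Y)
  (hgen : g (genericPoint X) = genericPoint Y) [IsIso (g.stalkMap (genericPoint X))]

include hgen in
theorem ffMap_bijective : Function.Bijective (ConstFib.ffMap g hgen) :=
  (ConcreteCategory.bijective_of_isIso (g.stalkMap (genericPoint X))).comp (bijective_stalkSpecializes_of_eq hgen)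

include hgen in
/-- A birational morphism has no specialisation in a fibre over a valuation ring. -/
theorem eq_of_specializes {z q : X} (hzq : z ⤳ q) (hg : g z = g q)
    [ValuationRing (Y.presheaf.stalk (g q))] : z = q := by
  have hsurj : Function.Surjective (g.stalkMap q) := by
    intro a
    obtain ⟨b, hb⟩ := (ffMap_bijective g hgen).2 (algebraMap (X.presheaf.stalk q) X.functionField a)
    have hinj := IsFractionRing.injective (X.presheaf.stalk q) X.functionField
    rcases ValuationRing.isInteger_or_isInteger (Y.presheaf.stalk (g q)) b with ⟨c, hc⟩ | ⟨c, hc⟩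
    · exact ⟨c, hinj (by rw [← ConstFib.ffMap_algebraMap g hgen q c, hc, hb])⟩
    · rcases eq_or_ne b 0 with hb0 | hb0
      · exact ⟨0, hinj (by rw [map_zero, map_zero, ← hb, hb0, map_zero])⟩
      have h1 : g.stalkMap q c * a = 1 := hinj (by
        rw [map_mul, map_one, ← ConstFib.ffMap_algebraMap g hgen q c, hc, ← hb, ← map_mul, inv_mul_cancel₀ hb0,
          map_one])
      obtain ⟨c', hc'⟩ := isUnit_of_map_unit (g.stalkMap q).hom c (IsUnit.of_mul_eq_one _ h1)
      refine ⟨(c'⁻¹ : (Y.presheaf.stalk (g q))ˣ), ?_⟩
      have h3 : g.stalkMap q (c'⁻¹ : (Y.presheaf.stalk (g q))ˣ) * g.stalkMap q c = 1 := by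
        rw [← map_mul, ← hc', Units.inv_mul, map_one]
      calc g.stalkMap q (c'⁻¹ : (Y.presheaf.stalk (g q))ˣ)
          = g.stalkMap q (c'⁻¹ : (Y.presheaf.stalk (g q))ˣ) * (g.stalkMap q c * a) := by rw [h1, mul_one]
        _ = a := by rw [← mul_assoc, h3, one_mul]
  let σ := X.presheaf.stalkSpecializes hzq
  have hloc : IsLocalHom σ.hom := ⟨fun w hw ↦ by
    obtain ⟨c, rfl⟩ := hsurj w
    have h1 : IsUnit (g.stalkMap z (Y.presheaf.stalkSpecializes (hzq.map g.continuous) c)) := by
      rwa [Scheme.Hom.stalkSpecializes_stalkMap_apply g z q hzq c]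
    have h2 := isUnit_of_map_unit (g.stalkMap z).hom _ h1
    have hb := bijective_stalkSpecializes_of_eq hg
    exact ((isUnit_map_iff (RingEquiv.ofBijective (Y.presheaf.stalkSpecializes (specializes_of_eq hg)).hom hb) c).1 h2).map
      (g.stalkMap q).hom⟩
  calc z = X.fromSpecStalk z (IsLocalRing.closedPoint _) := Scheme.fromSpecStalk_closedPoint.symm
    _ = X.fromSpecStalk q (Spec.map σ (IsLocalRing.closedPoint _)) := by
        rw [← Scheme.Hom.comp_apply, Scheme.SpecMap_stalkSpecializes_fromSpecStalk]
    _ = X.fromSpecStalk q (IsLocalRing.closedPoint _) := by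
        congr 1
        exact IsLocalRing.comap_closedPoint σ.hom
    _ = q := Scheme.fromSpecStalk_closedPoint

include hgen in
/-- A proper birational morphism onto a normal scheme has connected fibres. -/
theorem isPreconnected_preimage [IsLocallyNoetherian X] [IsLocallyNoetherian Y] [IsProper g]
    (hY : ∀ y : Y, IsIntegrallyClosed (Y.presheaf.stalk y)) (y : Y) : _root_.IsPreconnected (g ⁻¹' {y}) := by
  have h : g (genericPoint X) ⤳ y := hgen ▸ (genericPoint_spec Y).specializes trivial
  have hst : ∀ a, CohIII.stalkToFunctionField g y h a =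
      ConstFib.ffMap g hgen (algebraMap (Y.presheaf.stalk y) Y.functionField a) := fun a ↦ by
    change g.stalkMap _ (Y.presheaf.stalkSpecializes _ a) =
      g.stalkMap _ (Y.presheaf.stalkSpecializes _ (Y.presheaf.stalkSpecializes _ a))
    rw [← CommRingCat.comp_apply (Y.presheaf.stalkSpecializes _) (Y.presheaf.stalkSpecializes _),
      TopCat.Presheaf.stalkSpecializes_comp]
  haveI := hY y
  let C := CohIII.integralClosureStalk g y h
  letI := (CohIII.stalkToFunctionField g y h).toAlgebra
  let j : Y.presheaf.stalk y →+* C :=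
    (CohIII.stalkToFunctionField g y h).codRestrict C fun a ↦ show IsIntegral (Y.presheaf.stalk y) _ from isIntegral_algebraMap
  have hj : Function.Surjective j := fun ⟨x, hx⟩ ↦ by
    obtain ⟨b, rfl⟩ := (ffMap_bijective g hgen).2 x
    let φ : Y.functionField →ₐ[Y.presheaf.stalk y] X.functionField :=
      { toRingHom := ConstFib.ffMap g hgen
        commutes' := fun a ↦ (hst a).symm }
    have hb : IsIntegral (Y.presheaf.stalk y) b := (isIntegral_algHom_iff φ (ffMap_bijective g hgen).1).mp hx
    obtain ⟨a, rfl⟩ := IsIntegrallyClosed.isIntegral_iff.mp hb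
    exact ⟨a, Subtype.ext (hst a)⟩
  haveI : IsLocalRing C := IsLocalRing.of_surjective' j hj
  haveI : Subsingleton (MaximalSpectrum C) := ⟨fun P Q ↦ MaximalSpectrum.ext
    ((IsLocalRing.eq_maximalIdeal P.isMaximal).trans (IsLocalRing.eq_maximalIdeal Q.isMaximal).symm)⟩
  haveI : Subsingleton (_root_.ConnectedComponents ↥(g.fiber y)) :=
    Cardinal.le_one_iff_subsingleton.mp
      ((S2421.result g hgen y h).trans (Cardinal.le_one_iff_subsingleton.mpr inferInstance))
  haveI : PreconnectedSpace ↥(g.fiber y) := preconnectedSpace_iff_connectedComponent.mpr fun a ↦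
    Set.eq_univ_of_forall fun b ↦ ConnectedComponents.coe_eq_coe'.mp (Subsingleton.elim _ _)
  rw [← g.range_fiberι y]
  exact isPreconnected_range (g.fiberι y).continuous

/-- No four points in a chain of specialisations in dimension two. -/
theorem no_chain_four {T : Type u} [TopologicalSpace T] [T0Space T] (hdim : topologicalKrullDim T ≤ 2)
    {a b c d : T} (hab : a ⤳ b) (hbc : b ⤳ c) (hcd : c ⤳ d) (h1 : a ≠ b) (h2 : b ≠ c) (h3 : c ≠ d) : False := by
  let e : T → IrreducibleCloseds T := fun a => ⟨closure {a}, isIrreducible_singleton.closure, isClosed_closure⟩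
  have lt : ∀ a b : T, a ⤳ b → a ≠ b → e b < e a := fun a b hab hne' => by
    refine lt_of_le_of_ne ((show ∀ {A B : IrreducibleCloseds T}, (A : Set T) ⊆ B → A ≤ B from fun h => h)
      (closure_minimal (Set.singleton_subset_iff.2 hab.mem_closure) isClosed_closure)) fun he => hne' ?_
    have e' : closure ({b} : Set T) = closure {a} := congrArg (fun s : IrreducibleCloseds T => (s : Set T)) he
    exact (hab.antisymm (specializes_iff_closure_subset.2 e'.ge)).eq
  let s : LTSeries (IrreducibleCloseds T) :=
    (((RelSeries.singleton _ (e d)).snoc (e c) (lt c d hcd h3)).snoc (e b) (by simpa using lt b c hbc h2)).snoc (e a)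
      (by simpa using lt a b hab h1)
  have := le_trans (Order.LTSeries.length_le_krullDim s) hdim
  simp [s, RelSeries.snoc] at this
  norm_cast at this

/-- An irreducible component of a Noetherian scheme with integral local rings is clopen. -/
theorem isOpen_closure_of_maximal (T : Scheme.{u}) [NoetherianSpace T] (hT : ∀ v : T, IsDomain (T.presheaf.stalk v))
    (z : T) (hz : ∀ u : T, u ⤳ z → u = z) : IsOpen (closure ({z} : Set T)) := by
  have hmax : ∀ C ∈ irreducibleComponents T, ∀ c : T, IsGenericPoint c C → ∀ u : T, u ⤳ c → u = c := by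
    intro C hC c hc u hu
    have hle : C ⊆ closure {u} := hc ▸ specializes_iff_closure_subset.mp hu
    have : closure {u} ⊆ C := hC.2 isIrreducible_singleton.closure hle
    exact (hu.antisymm (hc.specializes (this (subset_closure rfl)))).eq
  have hdisj : ∀ v u u' : T, u ⤳ v → u' ⤳ v → (∀ w, w ⤳ u → w = u) → (∀ w, w ⤳ u' → w = u') → u = u' := by
    intro v u u' hu hu' hm hm'
    haveI := hT v
    have key : ∀ w, w ⤳ v → (∀ x, x ⤳ w → x = w) → T.fromSpecStalk v ⟨⊥, Ideal.isPrime_bot⟩ = w := by
      intro w hw hmw
      have : w ∈ Set.range (T.fromSpecStalk v) := by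
        rw [Scheme.range_fromSpecStalk]
        exact hw
      obtain ⟨P, rfl⟩ := this
      exact hmw _ (((PrimeSpectrum.le_iff_specializes (⟨⊥, Ideal.isPrime_bot⟩ : PrimeSpectrum _) P).mp bot_le).map
        (T.fromSpecStalk v).continuous)
    rw [← key u hu hm, key u' hu' hm']
  have hE : (closure ({z} : Set T))ᶜ = ⋃₀ (irreducibleComponents T \ {closure {z}}) := by
    ext v
    constructor
    · intro hv
      refine ⟨irreducibleComponent v, ⟨irreducibleComponent_mem_irreducibleComponents v, fun e ↦ hv ?_⟩,
        mem_irreducibleComponent⟩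
      rw [← (e : irreducibleComponent v = closure {z})]
      exact mem_irreducibleComponent
    · rintro ⟨C, ⟨hC, hne⟩, hvC⟩ hv
      obtain ⟨c, hc⟩ := QuasiSober.sober hC.1 (isClosed_of_mem_irreducibleComponents C hC)
      have := hdisj v z c (specializes_iff_mem_closure.mpr hv) (hc.specializes hvC) hz (hmax C hC c hc)
      exact hne (by rw [this]; exact hc.symm)
  rw [← isClosed_compl_iff, hE, Set.sUnion_eq_biUnion]
  exact (NoetherianSpace.finite_irreducibleComponents.sdiff).isClosed_biUnion fun C hC ↦
    isClosed_of_mem_irreducibleComponents C hC.1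

/-- A Noetherian sober space whose points are closed is finite. -/
theorem finite_of_forall_isClosed (T : Scheme.{u}) [NoetherianSpace T] (h : ∀ u v : T, u ⤳ v → u = v) : Finite T := by
  have hfin : (⋃₀ irreducibleComponents T : Set T).Finite := by
    refine NoetherianSpace.finite_irreducibleComponents.sUnion fun C hC ↦ ?_
    obtain ⟨c, hc⟩ := QuasiSober.sober hC.1 (isClosed_of_mem_irreducibleComponents C hC)
    exact (Set.finite_singleton c).subset fun v hv ↦ (h c v (hc.specializes hv)).symm
  rw [sUnion_irreducibleComponents] at hfin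
  exact Set.finite_univ_iff.mp hfin

end Groth.Agent.RelMinSmooth
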